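import Mathlib
import Groth.Agent.Lib.Helper8.LC.RDerivedLES

universe v u v' u'

open CategoryTheory CategoryTheory.Limits

namespace Groth.Agent.H8.RelMV

variable {C : Type u} [Category.{v} C] [Abelian C] {D : Type u'} [Category.{v'} D] [Abelian D]

section additivity

variable [HasInjectiveResolutions C] {G H : C ⥤ D} [G.Additive] [H.Additive]

lemma rightDerived_add (a b : G ⟶ H) (n : ℕ) :
    NatTrans.rightDerived (a + b) n = NatTrans.rightDerived a n + NatTrans.rightDerived b n := by
  ext X
  rw [NatTrans.app_add, InjectiveResolution.rightDerived_app_eq _ (injectiveResolution X) n,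
    InjectiveResolution.rightDerived_app_eq a (injectiveResolution X) n,
    InjectiveResolution.rightDerived_app_eq b (injectiveResolution X) n]
  have h : (NatTrans.mapHomologicalComplex (a + b) (ComplexShape.up ℕ)).app
      (injectiveResolution X).cocomplex =
      (NatTrans.mapHomologicalComplex a (ComplexShape.up ℕ)).app (injectiveResolution X).cocomplex +
      (NatTrans.mapHomologicalComplex b (ComplexShape.up ℕ)).app
        (injectiveResolution X).cocomplex := by
    ext i
    rfl
  rw [h]
  simp only [Functor.map_add, Preadditive.add_comp, Preadditive.comp_add]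

lemma rightDerived_zero (n : ℕ) : NatTrans.rightDerived (0 : G ⟶ H) n = 0 := by
  have h := rightDerived_add (0 : G ⟶ H) 0 n
  rw [add_zero] at h
  exact left_eq_add.1 h

lemma rightDerived_neg (a : G ⟶ H) (n : ℕ) :
    NatTrans.rightDerived (-a) n = -NatTrans.rightDerived a n := by
  have h := rightDerived_add (-a) a n
  rw [neg_add_cancel, rightDerived_zero] at h
  exact eq_neg_of_add_eq_zero_left h.symm

end additivity

section biprodFunctor

variable (G H : C ⥤ D)

/-- The pointwise biproduct of two functors. -/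
@[simps]
noncomputable def bp : C ⥤ D where
  obj X := G.obj X ⊞ H.obj X
  map f := biprod.map (G.map f) (H.map f)

instance [G.Additive] [H.Additive] : (bp G H).Additive where
  map_add {X Y f g} := by
    change biprod.map (G.map (f + g)) (H.map (f + g)) =
      biprod.map (G.map f) (H.map f) + biprod.map (G.map g) (H.map g)
    ext <;> simp

/-- first projection -/
@[simps]
noncomputable def bfst : bp G H ⟶ G where
  app _ := biprod.fst
  naturality _ _ _ := biprod.map_fst _ _

/-- second projection -/
@[simps]
noncomputable def bsnd : bp G H ⟶ H where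
  app _ := biprod.snd
  naturality _ _ _ := biprod.map_snd _ _

/-- first inclusion -/
@[simps]
noncomputable def binl : G ⟶ bp G H where
  app _ := biprod.inl
  naturality _ _ _ := (biprod.inl_map _ _).symm

/-- second inclusion -/
@[simps]
noncomputable def binr : H ⟶ bp G H where
  app _ := biprod.inr
  naturality _ _ _ := (biprod.inr_map _ _).symm

variable {G H} {K : C ⥤ D}

/-- lift -/
noncomputable def blift (a : K ⟶ G) (b : K ⟶ H) : K ⟶ bp G H where
  app X := (biprod.lift (a.app X) (b.app X) : K.obj X ⟶ G.obj X ⊞ H.obj X)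
  naturality X Y f := by
    change K.map f ≫ (biprod.lift (a.app Y) (b.app Y) : K.obj Y ⟶ G.obj Y ⊞ H.obj Y) =
      (biprod.lift (a.app X) (b.app X) : K.obj X ⟶ G.obj X ⊞ H.obj X) ≫
        biprod.map (G.map f) (H.map f)
    ext <;> simp

lemma blift_app (a : K ⟶ G) (b : K ⟶ H) (X : C) :
    (blift a b).app X = (biprod.lift (a.app X) (b.app X) : K.obj X ⟶ G.obj X ⊞ H.obj X) := rfl

/-- desc -/
noncomputable def bdesc (a : G ⟶ K) (b : H ⟶ K) : bp G H ⟶ K where
  app X := (biprod.desc (a.app X) (b.app X) : G.obj X ⊞ H.obj X ⟶ K.obj X)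
  naturality X Y f := by
    change biprod.map (G.map f) (H.map f) ≫
      (biprod.desc (a.app Y) (b.app Y) : G.obj Y ⊞ H.obj Y ⟶ K.obj Y) =
      (biprod.desc (a.app X) (b.app X) : G.obj X ⊞ H.obj X ⟶ K.obj X) ≫ K.map f
    ext <;> simp

lemma bdesc_app (a : G ⟶ K) (b : H ⟶ K) (X : C) :
    (bdesc a b).app X = (biprod.desc (a.app X) (b.app X) : G.obj X ⊞ H.obj X ⟶ K.obj X) := rfl

lemma binl_bfst : binl G H ≫ bfst G H = 𝟙 G := by
  ext X
  exact biprod.inl_fst
lemma binl_bsnd : binl G H ≫ bsnd G H = 0 := by
  ext X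
  exact biprod.inl_snd
lemma binr_bfst : binr G H ≫ bfst G H = 0 := by
  ext X
  exact biprod.inr_fst
lemma binr_bsnd : binr G H ≫ bsnd G H = 𝟙 H := by
  ext X
  exact biprod.inr_snd
lemma btotal : bfst G H ≫ binl G H + bsnd G H ≫ binr G H = 𝟙 (bp G H) := by
  ext X
  exact biprod.total
lemma blift_bfst (a : K ⟶ G) (b : K ⟶ H) : blift a b ≫ bfst G H = a := by
  ext X
  exact biprod.lift_fst _ _
lemma blift_bsnd (a : K ⟶ G) (b : K ⟶ H) : blift a b ≫ bsnd G H = b := by
  ext X
  exact biprod.lift_snd _ _
lemma binl_bdesc (a : G ⟶ K) (b : H ⟶ K) : binl G H ≫ bdesc a b = a := by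
  ext X
  exact biprod.inl_desc _ _
lemma binr_bdesc (a : G ⟶ K) (b : H ⟶ K) : binr G H ≫ bdesc a b = b := by
  ext X
  exact biprod.inr_desc _ _

end biprodFunctor


section main

open Groth.Agent.H8.LC.RDer

variable [HasInjectiveResolutions C] {G₁ GU GV GW : C ⥤ D}
  [G₁.Additive] [GU.Additive] [GV.Additive] [GW.Additive]

/-- `Rⁿ(G ⊞ H) ≅ RⁿG ⊞ RⁿH`. -/
noncomputable def eIso (n : ℕ) (F : C) :
    ((bp GU GV).rightDerived n).obj F ≅ (GU.rightDerived n).obj F ⊞ (GV.rightDerived n).obj F where
  hom := biprod.lift ((NatTrans.rightDerived (bfst GU GV) n).app F)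
    ((NatTrans.rightDerived (bsnd GU GV) n).app F)
  inv := biprod.desc ((NatTrans.rightDerived (binl GU GV) n).app F)
    ((NatTrans.rightDerived (binr GU GV) n).app F)
  hom_inv_id := by
    rw [biprod.lift_desc, ← NatTrans.comp_app, ← NatTrans.comp_app, ← NatTrans.rightDerived_comp,
      ← NatTrans.rightDerived_comp, ← NatTrans.app_add, ← rightDerived_add, btotal,
      NatTrans.rightDerived_id]
    rfl
  inv_hom_id := by
    have h11 : (NatTrans.rightDerived (binl GU GV) n).app F ≫
        (NatTrans.rightDerived (bfst GU GV) n).app F = 𝟙 _ := by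
      rw [← NatTrans.comp_app, ← NatTrans.rightDerived_comp, binl_bfst, NatTrans.rightDerived_id]
      rfl
    have h12 : (NatTrans.rightDerived (binl GU GV) n).app F ≫
        (NatTrans.rightDerived (bsnd GU GV) n).app F = 0 := by
      rw [← NatTrans.comp_app, ← NatTrans.rightDerived_comp, binl_bsnd, rightDerived_zero]
      rfl
    have h21 : (NatTrans.rightDerived (binr GU GV) n).app F ≫
        (NatTrans.rightDerived (bfst GU GV) n).app F = 0 := by
      rw [← NatTrans.comp_app, ← NatTrans.rightDerived_comp, binr_bfst, rightDerived_zero]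
      rfl
    have h22 : (NatTrans.rightDerived (binr GU GV) n).app F ≫
        (NatTrans.rightDerived (bsnd GU GV) n).app F = 𝟙 _ := by
      rw [← NatTrans.comp_app, ← NatTrans.rightDerived_comp, binr_bsnd, NatTrans.rightDerived_id]
      rfl
    ext <;> simp [h11, h12, h21, h22]

variable (aU : G₁ ⟶ GU) (aV : G₁ ⟶ GV) (bU : GU ⟶ GW) (bV : GV ⟶ GW)

lemma rα_eIso (n : ℕ) (F : C) :
    (NatTrans.rightDerived (blift aU aV) n).app F ≫ (eIso (GU := GU) (GV := GV) n F).hom =
      biprod.lift ((NatTrans.rightDerived aU n).app F) ((NatTrans.rightDerived aV n).app F) := by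
  ext
  · rw [Category.assoc, eIso, biprod.lift_fst, biprod.lift_fst, ← NatTrans.comp_app,
      ← NatTrans.rightDerived_comp, blift_bfst]
  · rw [Category.assoc, eIso, biprod.lift_snd, biprod.lift_snd, ← NatTrans.comp_app,
      ← NatTrans.rightDerived_comp, blift_bsnd]

lemma bdesc_eq (a : GU ⟶ GW) (b : GV ⟶ GW) :
    bdesc a b = bfst GU GV ≫ a + bsnd GU GV ≫ b := by
  ext X
  exact biprod.desc_eq

lemma eIso_rβ (n : ℕ) (F : C) :
    (eIso (GU := GU) (GV := GV) n F).hom ≫
      biprod.desc ((NatTrans.rightDerived bU n).app F) (-(NatTrans.rightDerived bV n).app F) =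
    (NatTrans.rightDerived (bdesc bU (-bV)) n).app F := by
  rw [eIso, biprod.lift_desc, bdesc_eq, rightDerived_add, NatTrans.rightDerived_comp,
    NatTrans.rightDerived_comp, rightDerived_neg, NatTrans.app_add, NatTrans.comp_app,
    NatTrans.comp_app, NatTrans.app_neg]


section mono

variable {F₁ F₂ F₃ : C ⥤ D} [F₁.Additive] [F₂.Additive] [F₃.Additive]
  (α : F₁ ⟶ F₂) (β : F₂ ⟶ F₃) (w : α ≫ β = 0)
  (h : ∀ (P : C), Injective P →
    (ShortComplex.mk (α.app P) (β.app P) (by rw [← NatTrans.comp_app, w]; rfl)).ShortExact)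

include h in
lemma mono_rightDerived_zero (X : C) : Mono ((NatTrans.rightDerived α 0).app X) := by
  let P := injectiveResolution X
  have hS := scOfComplex_shortExact α β w h P
  haveI : Mono (scOfComplex α β w P.cocomplex).f := hS.mono_f
  haveI : Mono (HomologicalComplex.homologyMap (scOfComplex α β w P.cocomplex).f 0) :=
    HomologicalComplex.mono_homologyMap_of_mono_of_not_rel _ 0 (by simp)
  have e := rightDerived_app_comm α P 0
  have hm : Mono ((isoRD P F₁ 0).hom ≫
      HomologicalComplex.homologyMap ((NatTrans.mapHomologicalComplex α _).app P.cocomplex) 0) :=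
    @mono_comp _ _ _ _ _ (isoRD P F₁ 0).hom inferInstance
      (HomologicalComplex.homologyMap (scOfComplex α β w P.cocomplex).f 0) this
  haveI : Mono ((NatTrans.rightDerived α 0).app X ≫ (isoRD P F₂ 0).hom) := by
    rw [e]
    exact hm
  exact mono_of_mono _ (isoRD P F₂ 0).hom

end mono

variable (w : aU ≫ bU = aV ≫ bV)
  (h : ∀ (P : C), Injective P →
    (ShortComplex.mk (biprod.lift (aU.app P) (aV.app P)) (biprod.desc (bU.app P) (-(bV.app P)))
      (by
        rw [biprod.lift_desc, Preadditive.comp_neg, ← NatTrans.comp_app, ← NatTrans.comp_app, w,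
          add_neg_cancel])).ShortExact)

include w in
lemma blift_bdesc_zero : blift aU aV ≫ bdesc bU (-bV) = 0 := by
  ext X
  change (biprod.lift (aU.app X) (aV.app X) : G₁.obj X ⟶ GU.obj X ⊞ GV.obj X) ≫
    (biprod.desc (bU.app X) (-(bV.app X)) : GU.obj X ⊞ GV.obj X ⟶ GW.obj X) = 0
  rw [biprod.lift_desc, Preadditive.comp_neg, ← NatTrans.comp_app, ← NatTrans.comp_app, w,
    add_neg_cancel]

include h in
/-- The abstract Mayer–Vietoris long exact sequence. -/
theorem abstract_mv (F : C) :
    ∃ δ : ∀ n : ℕ, (GW.rightDerived n).obj F ⟶ (G₁.rightDerived (n + 1)).obj F,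
      Mono (biprod.lift ((NatTrans.rightDerived aU 0).app F)
        ((NatTrans.rightDerived aV 0).app F)) ∧
      ∀ n : ℕ,
        (ComposableArrows.mk₂
          (biprod.lift ((NatTrans.rightDerived aU n).app F)
            ((NatTrans.rightDerived aV n).app F))
          (biprod.desc ((NatTrans.rightDerived bU n).app F)
            (-((NatTrans.rightDerived bV n).app F)))).Exact ∧
        (ComposableArrows.mk₂
          (biprod.desc ((NatTrans.rightDerived bU n).app F)
            (-((NatTrans.rightDerived bV n).app F)))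
          (δ n)).Exact ∧
        (ComposableArrows.mk₂ (δ n)
          (biprod.lift ((NatTrans.rightDerived aU (n + 1)).app F)
            ((NatTrans.rightDerived aV (n + 1)).app F))).Exact := by
  have w' := blift_bdesc_zero aU aV bU bV w
  have h' : ∀ (P : C), Injective P →
      (ShortComplex.mk ((blift aU aV).app P) ((bdesc bU (-bV)).app P)
        (by rw [← NatTrans.comp_app, w']; rfl)).ShortExact := fun P hP => h P hP
  refine ⟨fun n => (δ (blift aU aV) (bdesc bU (-bV)) w' h' n).app F, ?_, fun n => ⟨?_, ?_, ?_⟩⟩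
  · rw [← rα_eIso]
    haveI := mono_rightDerived_zero (blift aU aV) (bdesc bU (-bV)) w' h' F
    infer_instance
  · have e := exact₂ (blift aU aV) (bdesc bU (-bV)) w' h' F n
    have z : biprod.lift ((NatTrans.rightDerived aU n).app F)
        ((NatTrans.rightDerived aV n).app F) ≫
        biprod.desc ((NatTrans.rightDerived bU n).app F)
          (-((NatTrans.rightDerived bV n).app F)) = 0 := by
      rw [← rα_eIso, Category.assoc, eIso_rβ]
      exact rightDerived_app_comp_zero (blift aU aV) (bdesc bU (-bV)) w' F n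
    have e' : (ShortComplex.mk _ _ z).Exact := by
      refine (ShortComplex.exact_iff_of_iso ?_).1 e
      refine ShortComplex.isoMk (Iso.refl _) (eIso n F) (Iso.refl _) ?_ ?_
      · exact ((rα_eIso aU aV n F).trans (Category.id_comp _).symm).symm
      · exact ((Category.comp_id _).trans (eIso_rβ bU bV n F).symm).symm
    exact e'.exact_toComposableArrows
  · have e := exact₃ (blift aU aV) (bdesc bU (-bV)) w' h' F n
    have z : biprod.desc ((NatTrans.rightDerived bU n).app F)
          (-((NatTrans.rightDerived bV n).app F)) ≫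
        (δ (blift aU aV) (bdesc bU (-bV)) w' h' n).app F = 0 := by
      rw [← cancel_epi (eIso (GU := GU) (GV := GV) n F).hom, ← Category.assoc, eIso_rβ, comp_zero]
      exact rightDerived_comp_δ (blift aU aV) (bdesc bU (-bV)) w' h' F n
    have e' : (ShortComplex.mk _ _ z).Exact := by
      refine (ShortComplex.exact_iff_of_iso ?_).1 e
      refine ShortComplex.isoMk (eIso n F) (Iso.refl _) (Iso.refl _) ?_ ?_
      · exact ((Category.comp_id _).trans (eIso_rβ bU bV n F).symm).symm
      · exact ((Category.comp_id _).trans (Category.id_comp _).symm).symm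
    exact e'.exact_toComposableArrows
  · have e := exact₁ (blift aU aV) (bdesc bU (-bV)) w' h' F n
    have z : (δ (blift aU aV) (bdesc bU (-bV)) w' h' n).app F ≫
        biprod.lift ((NatTrans.rightDerived aU (n + 1)).app F)
          ((NatTrans.rightDerived aV (n + 1)).app F) = 0 := by
      rw [← rα_eIso, ← Category.assoc, δ_comp_rightDerived, zero_comp]
    have e' : (ShortComplex.mk _ _ z).Exact := by
      refine (ShortComplex.exact_iff_of_iso ?_).1 e
      refine ShortComplex.isoMk (Iso.refl _) (Iso.refl _) (eIso (n + 1) F) ?_ ?_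
      · exact ((Category.comp_id _).trans (Category.id_comp _).symm).symm
      · exact ((rα_eIso aU aV (n + 1) F).trans (Category.id_comp _).symm).symm
    exact e'.exact_toComposableArrows

end main

end Groth.Agent.H8.RelMV
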