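import Mathlib

universe u

open CategoryTheory CategoryTheory.Limits TopologicalSpace Opposite

namespace Groth.Agent.H8.RelMV

variable {X : TopCat.{u}}

/-- Gluing two sections of a sheaf of abelian groups. -/
lemma exists_glue₂ (F : TopCat.Sheaf AddCommGrpCat.{u} X) {O O₁ O₂ O₁₂ : Opens X}
    (i₁ : O₁ ⟶ O) (i₂ : O₂ ⟶ O) (j₁ : O₁₂ ⟶ O₁) (j₂ : O₁₂ ⟶ O₂)
    (hcover : O ≤ O₁ ⊔ O₂) (hinf : O₁ ⊓ O₂ ≤ O₁₂)
    (s₁ : F.1.obj (op O₁)) (s₂ : F.1.obj (op O₂))
    (h : F.1.map j₁.op s₁ = F.1.map j₂.op s₂) :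
    ∃ s : F.1.obj (op O), F.1.map i₁.op s = s₁ ∧ F.1.map i₂.op s = s₂ := by
  let U : Bool → Opens X := fun b => if b then O₁ else O₂
  let sf : ∀ b : Bool, ToType (F.1.obj (op (U b))) := fun b =>
    match b with
    | true => s₁
    | false => s₂
  have key : ∀ (W : Opens X) (a : W ⟶ O₁) (b : W ⟶ O₂),
      F.1.map a.op s₁ = F.1.map b.op s₂ := by
    intro W a b
    have hk : W ⟶ O₁₂ := homOfLE ((le_inf a.le b.le).trans hinf)
    have e1 : a.op = j₁.op ≫ hk.op := Subsingleton.elim _ _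
    have e2 : b.op = j₂.op ≫ hk.op := Subsingleton.elim _ _
    rw [e1, e2, F.1.map_comp, F.1.map_comp, ConcreteCategory.comp_apply,
      ConcreteCategory.comp_apply, h]
  have hc : TopCat.Presheaf.IsCompatible F.1 U sf := by
    intro a b
    cases a <;> cases b
    · exact congrArg (fun t => (ConcreteCategory.hom (F.1.map t)) s₂) (Subsingleton.elim _ _)
    · exact (key _ _ _).symm
    · exact key _ _ _
    · exact congrArg (fun t => (ConcreteCategory.hom (F.1.map t)) s₁) (Subsingleton.elim _ _)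
  obtain ⟨s, hs, -⟩ := F.existsUnique_gluing' U O
    (fun b => match b with
      | true => i₁
      | false => i₂)
    (by
      refine hcover.trans ?_
      rw [sup_le_iff]
      exact ⟨le_iSup U true, le_iSup U false⟩) sf hc
  exact ⟨s, hs true, hs false⟩


section SES

variable {C : Type u} [SmallCategory C] {J : GrothendieckTopology C}

/-- exactness of abelian sheaves can be checked on sections (copied from lead's
`QCQS/SectExact`). -/
theorem exact_of_sections_ab (S : ShortComplex (Sheaf J AddCommGrpCat.{u}))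
    (h : ∀ (U : Cᵒᵖ) (x : S.X₂.obj.obj U), S.g.hom.app U x = 0 → ∃ y, S.f.hom.app U y = x) :
    S.Exact := by
  let P : ShortComplex (Cᵒᵖ ⥤ AddCommGrpCat.{u}) := S.map (sheafToPresheaf J AddCommGrpCat.{u})
  have hP : P.Exact := by
    rw [ShortComplex.exact_iff_isZero_homology, Functor.isZero_iff]
    intro U
    refine IsZero.of_iso ?_ (P.mapHomologyIso ((evaluation _ _).obj U)).symm
    rw [← ShortComplex.exact_iff_isZero_homology, ShortComplex.ab_exact_iff]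
    intro x hx
    exact h U x hx
  haveI : PreservesFiniteLimits (presheafToSheaf J AddCommGrpCat.{u}) := inferInstance
  haveI : PreservesFiniteColimits (presheafToSheaf J AddCommGrpCat.{u}) := inferInstance
  have h2 : (P.map (presheafToSheaf J AddCommGrpCat.{u})).Exact := hP.map _
  let e : sheafToPresheaf J AddCommGrpCat.{u} ⋙ presheafToSheaf J AddCommGrpCat.{u} ≅ 𝟭 _ :=
    asIso (sheafificationAdjunction J AddCommGrpCat.{u}).counit
  have e2 : P.map (presheafToSheaf J AddCommGrpCat.{u}) ≅ S :=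
    (S.mapNatIso e : S.map (sheafToPresheaf J AddCommGrpCat.{u} ⋙ presheafToSheaf J AddCommGrpCat.{u}) ≅
      S.map (𝟭 _))
  exact ShortComplex.exact_of_iso e2 h2

variable {P Q₁ Q₂ R : Sheaf J AddCommGrpCat.{u}}

lemma biprod_total_app (W : Cᵒᵖ) (t : (Q₁ ⊞ Q₂).obj.obj W) :
    t = (biprod.inl : Q₁ ⟶ Q₁ ⊞ Q₂).hom.app W ((biprod.fst : Q₁ ⊞ Q₂ ⟶ Q₁).hom.app W t) +
      (biprod.inr : Q₂ ⟶ Q₁ ⊞ Q₂).hom.app W ((biprod.snd : Q₁ ⊞ Q₂ ⟶ Q₂).hom.app W t) := by
  have h : (ConcreteCategory.hom ((biprod.fst ≫ biprod.inl + biprod.snd ≫ biprod.inr :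
      Q₁ ⊞ Q₂ ⟶ Q₁ ⊞ Q₂).hom.app W)) t = t := by
    rw [biprod.total]
    rfl
  rw [Sheaf.Hom.add_app] at h
  exact h.symm

theorem shortExact_of_sections (a₁ : P ⟶ Q₁) (a₂ : P ⟶ Q₂) (b₁ : Q₁ ⟶ R) (b₂ : Q₂ ⟶ R)
    (w : a₁ ≫ b₁ = a₂ ≫ b₂)
    (h1 : ∀ (W : Cᵒᵖ) (s : P.obj.obj W), a₁.hom.app W s = 0 → a₂.hom.app W s = 0 → s = 0)
    (h2 : ∀ (W : Cᵒᵖ) (t₁ : Q₁.obj.obj W) (t₂ : Q₂.obj.obj W),
      b₁.hom.app W t₁ = b₂.hom.app W t₂ → ∃ s, a₁.hom.app W s = t₁ ∧ a₂.hom.app W s = t₂)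
    (h3 : ∀ (W : Cᵒᵖ) (r : R.obj.obj W), ∃ t₁, b₁.hom.app W t₁ = r) :
    (ShortComplex.mk (biprod.lift a₁ a₂) (biprod.desc b₁ (-b₂))
      (by rw [biprod.lift_desc, Preadditive.comp_neg, w, add_neg_cancel])).ShortExact := by
  have comp_app : ∀ {A B C' : Sheaf J AddCommGrpCat.{u}} (f : A ⟶ B) (g : B ⟶ C') (W : Cᵒᵖ)
      (x : A.obj.obj W), (f ≫ g).hom.app W x = g.hom.app W (f.hom.app W x) := fun _ _ _ _ => rfl
  have lift_fst : ∀ (W : Cᵒᵖ) (s : P.obj.obj W),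
      (biprod.fst : Q₁ ⊞ Q₂ ⟶ Q₁).hom.app W ((biprod.lift a₁ a₂).hom.app W s) =
        a₁.hom.app W s := by
    intro W s
    rw [← comp_app, biprod.lift_fst]
  have lift_snd : ∀ (W : Cᵒᵖ) (s : P.obj.obj W),
      (biprod.snd : Q₁ ⊞ Q₂ ⟶ Q₂).hom.app W ((biprod.lift a₁ a₂).hom.app W s) =
        a₂.hom.app W s := by
    intro W s
    rw [← comp_app, biprod.lift_snd]
  have desc_inl : ∀ (W : Cᵒᵖ) (x : Q₁.obj.obj W),
      (biprod.desc b₁ (-b₂)).hom.app W ((biprod.inl : Q₁ ⟶ Q₁ ⊞ Q₂).hom.app W x) =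
        b₁.hom.app W x := by
    intro W x
    rw [← comp_app, biprod.inl_desc]
  have desc_inr : ∀ (W : Cᵒᵖ) (y : Q₂.obj.obj W),
      (biprod.desc b₁ (-b₂)).hom.app W ((biprod.inr : Q₂ ⟶ Q₁ ⊞ Q₂).hom.app W y) =
        - b₂.hom.app W y := by
    intro W y
    rw [← comp_app, biprod.inr_desc]
    rfl
  refine { exact := ?_, mono_f := ?_, epi_g := ?_ }
  · apply exact_of_sections_ab
    intro W t ht
    have ht' := biprod_total_app W t
    change (ConcreteCategory.hom ((biprod.desc b₁ (-b₂)).hom.app W)) t = 0 at ht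
    rw [ht', map_add, desc_inl, desc_inr] at ht
    obtain ⟨s, hs₁, hs₂⟩ := h2 W _ _ (add_neg_eq_zero.1 ht)
    refine ⟨s, ?_⟩
    change (ConcreteCategory.hom ((biprod.lift a₁ a₂).hom.app W)) s = t
    rw [biprod_total_app W ((ConcreteCategory.hom ((biprod.lift a₁ a₂).hom.app W)) s),
      lift_fst, lift_snd, hs₁, hs₂]
    exact ht'.symm
  · haveI : Mono (biprod.lift a₁ a₂).hom := by
      haveI : ∀ W, Mono ((biprod.lift a₁ a₂).hom.app W) := by
        intro W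
        rw [AddCommGrpCat.mono_iff_injective, injective_iff_map_eq_zero]
        intro s hs
        apply h1 W s
        · rw [← lift_fst, hs, map_zero]
        · rw [← lift_snd, hs, map_zero]
      exact NatTrans.mono_of_mono_app _
    exact Sheaf.Hom.mono_of_presheaf_mono _ _ _
  · apply (Sheaf.isLocallySurjective_iff_epi' (φ := biprod.desc b₁ (-b₂))).mp
    apply Presheaf.isLocallySurjective_of_surjective
    intro W r
    obtain ⟨t₁, ht₁⟩ := h3 W r
    exact ⟨(biprod.inl : Q₁ ⟶ Q₁ ⊞ Q₂).hom.app W t₁, by rw [desc_inl, ht₁]⟩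

end SES

end Groth.Agent.H8.RelMV
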