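import Mathlib
import Groth.Prelude.Def_CohCx
import Groth.Agent.Lib.Helper8.RelMV.Sect

universe u

open CategoryTheory CategoryTheory.Limits TopologicalSpace Opposite

namespace Groth.Agent.H8.RelMV

variable {X Y : TopCat.{u}} (f : X ⟶ Y) (U V : Opens X)

/-- the image in `X` of the preimage of `W` in `U` -/
def OU (W : Opens Y) : Opens X :=
  (U.isOpenEmbedding.isOpenMap.functor).obj ((Opens.map (CohCx.incl U ≫ f)).obj W)

example (I : CohTop.Ab X) (W : (Opens Y)ᵒᵖ) :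
    ((CohTop.restrFunctor U ⋙ CohTop.push (CohCx.incl U ≫ f)).obj I).obj.obj W =
      I.obj.obj (op (OU f U W.unop)) := rfl

example (I : CohTop.Ab X) (W : (Opens Y)ᵒᵖ) :
    ((CohTop.push f).obj I).obj.obj W = I.obj.obj (op ((Opens.map f).obj W.unop)) := rfl

lemma mem_OU (W : Opens Y) (x : X) : x ∈ OU f U W ↔ x ∈ U ∧ f x ∈ W := by
  constructor
  · rintro ⟨y, hy, rfl⟩
    exact ⟨y.2, hy⟩
  · rintro ⟨hU, hW⟩
    exact ⟨⟨x, hU⟩, hW, rfl⟩


lemma OU_le (W : Opens Y) : OU f U W ≤ (Opens.map f).obj W := by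
  intro x hx
  exact ((mem_OU f U W x).1 hx).2

lemma OU_mono {U' : Opens X} (h : U' ≤ U) (W : Opens Y) : OU f U' W ≤ OU f U W := by
  intro x hx
  rw [mem_OU] at hx ⊢
  exact ⟨h hx.1, hx.2⟩

lemma le_OU_sup (hUV : U ⊔ V = ⊤) (W : Opens Y) :
    (Opens.map f).obj W ≤ OU f U W ⊔ OU f V W := by
  intro x hx
  have hx' : x ∈ U ⊔ V := by rw [hUV]; trivial
  rcases hx' with h | h
  · exact Or.inl ((mem_OU f U W x).2 ⟨h, hx⟩)
  · exact Or.inr ((mem_OU f V W x).2 ⟨h, hx⟩)

lemma OU_inf_le (W : Opens Y) : OU f U W ⊓ OU f V W ≤ OU f (U ⊓ V) W := by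
  rintro x ⟨h1, h2⟩
  rw [SetLike.mem_coe, mem_OU] at h1 h2
  exact (mem_OU f (U ⊓ V) W x).2 ⟨⟨h1.1, h2.1⟩, h1.2⟩

open CohCx in
lemma pushToRestrPush_app (I : CohTop.Ab X) (W : (Opens Y)ᵒᵖ) :
    ((pushToRestrPush f U).app I).hom.app W = I.obj.map (homOfLE (OU_le f U W.unop)).op := rfl

open CohCx in
lemma restrPushToRestrPush_app {U' : Opens X} (h : U' ≤ U) (I : CohTop.Ab X) (W : (Opens Y)ᵒᵖ) :
    ((restrPushToRestrPush f h).app I).hom.app W =
      I.obj.map (homOfLE (OU_mono f U h W.unop)).op := rfl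

open CohCx in
lemma mv_w (I : CohTop.Ab X) :
    (pushToRestrPush f U).app I ≫ (restrPushToRestrPush f (inf_le_left : U ⊓ V ≤ U)).app I =
      (pushToRestrPush f V).app I ≫ (restrPushToRestrPush f (inf_le_right : U ⊓ V ≤ V)).app I := by
  ext W : 3
  change I.obj.map _ ≫ I.obj.map _ = I.obj.map _ ≫ I.obj.map _
  rw [← I.obj.map_comp, ← I.obj.map_comp]
  rfl

open CohCx in
/-- The Mayer–Vietoris short exact sequence of a flasque sheaf. -/
theorem mv_shortExact (hUV : U ⊔ V = ⊤) (I : CohTop.Ab X) [TopCat.Sheaf.IsFlasque I] :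
    (ShortComplex.mk
      (biprod.lift ((pushToRestrPush f U).app I) ((pushToRestrPush f V).app I))
      (biprod.desc ((restrPushToRestrPush f (inf_le_left : U ⊓ V ≤ U)).app I)
        (-((restrPushToRestrPush f (inf_le_right : U ⊓ V ≤ V)).app I)))
      (by rw [biprod.lift_desc, Preadditive.comp_neg, mv_w, add_neg_cancel])).ShortExact := by
  apply shortExact_of_sections _ _ _ _ (mv_w f U V I)
  · intro W s h1 h2
    rw [pushToRestrPush_app] at h1 h2
    apply TopCat.Sheaf.eq_of_locally_eq₂ I (homOfLE (OU_le f U W.unop))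
      (homOfLE (OU_le f V W.unop)) (le_OU_sup f U V hUV W.unop)
    · exact h1.trans (map_zero _).symm
    · exact h2.trans (map_zero _).symm
  · intro W t₁ t₂ h
    rw [restrPushToRestrPush_app, restrPushToRestrPush_app] at h
    obtain ⟨s, hs1, hs2⟩ := exists_glue₂ I (homOfLE (OU_le f U W.unop))
      (homOfLE (OU_le f V W.unop)) (homOfLE (OU_mono f U inf_le_left W.unop))
      (homOfLE (OU_mono f V inf_le_right W.unop)) (le_OU_sup f U V hUV W.unop)
      (OU_inf_le f U V W.unop) t₁ t₂ h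
    exact ⟨s, hs1, hs2⟩
  · intro W r
    rw [restrPushToRestrPush_app]
    have := TopCat.Presheaf.IsFlasque.epi (F := I.obj)
      (homOfLE (OU_mono f U (inf_le_left : U ⊓ V ≤ U) W.unop)).op
    rw [AddCommGrpCat.epi_iff_surjective] at this
    exact this r

end Groth.Agent.H8.RelMV
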