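import Groth.Agent.Lib.Helper8.RelMV.Geo
import Groth.Agent.Lib.Helper8.RelMV.Abstract
import Groth.Agent.Lib.Lead.SC.Flasque

universe u

open CategoryTheory CategoryTheory.Limits TopologicalSpace Opposite

namespace Groth.Agent.H8.RelMV

variable {X Y : TopCat.{u}} (f : X ⟶ Y) (U V : Opens X)

open CohCx in
lemma mv_w_nat :
    pushToRestrPush f U ≫ restrPushToRestrPush f (inf_le_left : U ⊓ V ≤ U) =
      pushToRestrPush f V ≫ restrPushToRestrPush f (inf_le_right : U ⊓ V ≤ V) := by
  ext I : 2
  exact mv_w f U V I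

open CohCx in
theorem rel_mv (hUV : U ⊔ V = ⊤) (F : CohTop.Ab X) :
    ∃ δ : ∀ n : ℕ, (CohCx.RpushOn f (U ⊓ V) n).obj F ⟶ (CohTop.Rpush f (n + 1)).obj F,
      Mono (biprod.lift ((NatTrans.rightDerived (CohCx.pushToRestrPush f U) 0).app F)
        ((NatTrans.rightDerived (CohCx.pushToRestrPush f V) 0).app F)) ∧
      ∀ n : ℕ,
        (ComposableArrows.mk₂
          (biprod.lift ((NatTrans.rightDerived (CohCx.pushToRestrPush f U) n).app F)
            ((NatTrans.rightDerived (CohCx.pushToRestrPush f V) n).app F))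
          (biprod.desc
            ((NatTrans.rightDerived (CohCx.restrPushToRestrPush f (inf_le_left : U ⊓ V ≤ U)) n).app F)
            (-((NatTrans.rightDerived (CohCx.restrPushToRestrPush f (inf_le_right : U ⊓ V ≤ V)) n).app F)))).Exact ∧
        (ComposableArrows.mk₂
          (biprod.desc
            ((NatTrans.rightDerived (CohCx.restrPushToRestrPush f (inf_le_left : U ⊓ V ≤ U)) n).app F)
            (-((NatTrans.rightDerived (CohCx.restrPushToRestrPush f (inf_le_right : U ⊓ V ≤ V)) n).app F)))
          (δ n)).Exact ∧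
        (ComposableArrows.mk₂ (δ n)
          (biprod.lift ((NatTrans.rightDerived (CohCx.pushToRestrPush f U) (n + 1)).app F)
            ((NatTrans.rightDerived (CohCx.pushToRestrPush f V) (n + 1)).app F))).Exact := by
  refine abstract_mv (pushToRestrPush f U) (pushToRestrPush f V)
    (restrPushToRestrPush f (inf_le_left : U ⊓ V ≤ U))
    (restrPushToRestrPush f (inf_le_right : U ⊓ V ≤ V)) (mv_w_nat f U V) ?_ F
  intro P hP
  haveI : TopCat.Sheaf.IsFlasque P := Groth.Agent.LD.SC.isFlasque_of_injective P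
  exact mv_shortExact f U V hUV P

end Groth.Agent.H8.RelMV
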